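import Groth.Agent.Coherent.K437.GrPush
import Groth.Agent.ShStab.K848.FreeHp

/-!
# Grothendieck's boundedness of saturated subsheaves (namespace `K437.GrBdd`)

`main`: for `X` proper over an algebraically closed field with an ample `L`, `F` coherent and pure of dimension
`d ≥ 1`, the saturated coherent subsheaves of `F` of slope at least `b` form a bounded family.
-/

set_option autoImplicit false
universe u
open CategoryTheory CategoryTheory.Limits AlgebraicGeometry TopologicalSpace Polynomial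

namespace K437.GrBdd

open Groth.Agent Groth.Agent.Fga.PicMon ShStab K847.Pn K847.GL StabCat K437.GrPush
  Groth.Agent.FormalA.HHLin Groth.Agent.Pic13.H951.PresentX Groth.Agent.VarietyB.EulerBinom

section les

variable (k : Type u) [Field k] {n : ℕ}

/-- Vanishing for the kernel: `0 → A → B → C → 0` on `P^n`, `H^i(B(t)) = 0` for `i ≥ 1`, `H^i(C(t)) = 0` for `i ≥ 1`
and `H^0(B(t)) → H^0(C(t))` surjective. -/
theorem van_kernel {S : ShortComplex (CohB1.ProjSpace n k).Modules} (hS : S.ShortExact) (t : ℤ)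
    (hB : ∀ i : ℕ, 1 ≤ i → Subsingleton (Coh.HH (CohB1.ProjSpace n k) (tw S.X₂ t) i))
    (hC : ∀ i : ℕ, 1 ≤ i → Subsingleton (Coh.HH (CohB1.ProjSpace n k) (tw S.X₃ t) i))
    (hs : Function.Surjective (HHmap k (twm S.g t) 0)) (i : ℕ) (hi : 1 ≤ i) :
    Subsingleton (Coh.HH (CohB1.ProjSpace n k) (tw S.X₁ t) i) := by
  have hSt := shortExact_twist k n hS t
  obtain ⟨i, rfl⟩ : ∃ i', i = i' + 1 := ⟨i - 1, by omega⟩
  have h3 := hB (i + 1) hi
  have h4 : ∀ x : Coh.HH (CohB1.ProjSpace n k) (tw S.X₃ t) i, FormalB.HHLes.δ k hSt i x = 0 := by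
    intro x
    rcases Nat.eq_zero_or_pos i with rfl | hi0
    · obtain ⟨y, rfl⟩ := hs x
      exact (FormalB.HHLes.exact_map_δ k hSt 0 _).mpr ⟨y, rfl⟩
    · have := hC i hi0
      exact (congrArg (FormalB.HHLes.δ k hSt i) (Subsingleton.elim x 0)).trans (LinearMap.map_zero _)
  refine ⟨fun a b => ?_⟩
  have key : ∀ a : Coh.HH (CohB1.ProjSpace n k) (tw S.X₁ t) (i + 1), a = 0 := by
    intro a
    obtain ⟨x, hx⟩ := (FormalB.HHLes.exact_δ_map k hSt i a).mp (h3.elim _ _)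
    rw [← hx]
    exact h4 x
  rw [key a, key b]

/-- Regularity of the kernel. -/
theorem reg_kernel {S : ShortComplex (CohB1.ProjSpace n k).Modules} (hS : S.ShortExact) (ρ t₀ r₀ : ℤ)
    (hB : ∀ r : ℤ, r₀ ≤ r → ∀ i : ℕ, 1 ≤ i → Subsingleton (Coh.HH (CohB1.ProjSpace n k) (tw S.X₂ r) i))
    (hC : ∀ t : ℤ, t₀ ≤ t → (∀ i : ℕ, 1 ≤ i →
      Subsingleton (Coh.HH (CohB1.ProjSpace n k) (tw (tw S.X₃ ρ) t) i)) ∧
        Function.Surjective (HHmap k (twm (twm S.g ρ) t) 0)) :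
    Curv2.IsMRegular k n S.X₁ (max t₀ (r₀ - ρ) + ρ + n) := by
  intro i hi hin
  set s : ℤ := max t₀ (r₀ - ρ) + ρ + n - i with hs
  have h1 : t₀ ≤ s - ρ := by
    have := le_max_left t₀ (r₀ - ρ)
    have h2 : (i : ℤ) ≤ n := by exact_mod_cast hin
    omega
  have h2 : r₀ ≤ s := by
    have := le_max_right t₀ (r₀ - ρ)
    have h2 : (i : ℤ) ≤ n := by exact_mod_cast hin
    omega
  have hSr := shortExact_twist k n hS ρ
  have h3 := van_kernel k hSr (s - ρ) (fun j hj => ?_) (hC (s - ρ) h1).1 (hC (s - ρ) h1).2 i hi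
  · obtain ⟨e⟩ := tw_tw S.X₁ ρ (s - ρ)
    rw [add_sub_cancel] at e
    exact (hmapEquiv k _ e i).symm.toEquiv.subsingleton_congr.mpr h3
  · obtain ⟨e⟩ := tw_tw S.X₂ ρ (s - ρ)
    rw [add_sub_cancel] at e
    have := hB s h2 j hj
    exact (hmapEquiv k _ e j).toEquiv.subsingleton

/-- The bound of uniform regularity for quotients of `O^N` twisted by `ρ`. -/
noncomputable def T (n N : ℕ) (hN : 1 ≤ N) (ρ : ℤ) (R : ℚ[X]) : ℤ :=
  (exists_reg.{u} n N hN (R.comp (Polynomial.X + C (ρ : ℚ)))).choose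

theorem reg_of_quot {S : ShortComplex (CohB1.ProjSpace n k).Modules} (hS : S.ShortExact)
    (h3 : Coh.IsCoh S.X₃) (N : ℕ) (hN : 1 ≤ N) (ρ r₀ : ℤ)
    (p : FlatMod.freeMod (CohB1.ProjSpace n k) N ⟶ tw S.X₂ ρ) (hp : Epi p) {R : ℚ[X]} (hR : HP k S.X₃ R)
    (hB : ∀ r : ℤ, r₀ ≤ r → ∀ i : ℕ, 1 ≤ i → Subsingleton (Coh.HH (CohB1.ProjSpace n k) (tw S.X₂ r) i)) :
    Curv2.IsMRegular k n S.X₁ (max (T.{u} n N hN ρ R) (r₀ - ρ) + ρ + n) := by
  have hepi : Epi S.g := hS.epi_g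
  have hepi1 : Epi (twm S.g ρ) := by
    have : (DCoh.tensorRightMod (O k n ρ)).PreservesEpimorphisms := inferInstance
    exact this.preserves S.g
  refine reg_kernel k hS ρ (T.{u} n N hN ρ R) r₀ hB fun t ht => ?_
  have h1 := (exists_reg.{u} n N hN (R.comp (Polynomial.X + C (ρ : ℚ)))).choose_spec k
    (tw S.X₃ ρ) (p ≫ twm S.g ρ) (isCoh_tw h3 _) (epi_comp _ _) (HP_tw k hR ρ) t ht
  refine ⟨h1.1, fun x => ?_⟩
  obtain ⟨y, hy⟩ := h1.2 x
  refine ⟨HHmap k (twm p t) 0 y, ?_⟩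
  rw [HHmap_comp_apply]
  have h5 : twm p t ≫ twm (twm S.g ρ) t = twm (p ≫ twm S.g ρ) t := by
    change (DCoh.tensorRightMod _).map _ ≫ (DCoh.tensorRightMod _).map _ = (DCoh.tensorRightMod _).map _
    rw [← Functor.map_comp]
  rw [h5]
  exact hy

theorem exists_quot {S : ShortComplex (CohB1.ProjSpace n k).Modules} (hS : S.ShortExact) (N : ℕ) (ρ : ℤ)
    (p : FlatMod.freeMod (CohB1.ProjSpace n k) N ⟶ tw S.X₂ ρ) (hp : Epi p) :
    ∃ q : tw (FlatMod.freeMod (CohB1.ProjSpace n k) N) (-ρ) ⟶ S.X₃, Epi q := by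
  have hepi : Epi S.g := hS.epi_g
  have hepi1 : Epi (twm S.g ρ) := by
    have : (DCoh.tensorRightMod (O k n ρ)).PreservesEpimorphisms := inferInstance
    exact this.preserves S.g
  let q : FlatMod.freeMod (CohB1.ProjSpace n k) N ⟶ tw S.X₃ ρ := p ≫ twm S.g ρ
  have hq : Epi q := epi_comp _ _
  obtain ⟨e1⟩ := tw_tw S.X₃ ρ (-ρ)
  rw [add_neg_cancel] at e1
  obtain ⟨e2⟩ := tw_zero S.X₃
  have hepi2 : Epi (twm q (-ρ)) := by
    have : (DCoh.tensorRightMod (O k n (-ρ))).PreservesEpimorphisms := inferInstance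
    exact this.preserves q
  exact ⟨twm q (-ρ) ≫ e1.hom ≫ e2.hom, epi_comp' hepi2 (epi_comp _ _)⟩

end les

section main

variable (k : Type u) [Field k] [IsAlgClosed k] (X : Scheme.{u}) [X.Over (Spec (CommRingCat.of k))]
  [IsProper (X ↘ Spec (CommRingCat.of k))]

/-- **Grothendieck's boundedness of saturated subsheaves.** -/
theorem main (L : X.Modules) (hL : CohB1.IsAmple L) (d : ℕ) (hd : 1 ≤ d)
    (F : X.Modules) (hF : Coh.IsCoh F) (hpure : ShStab.IsPure X F d) (b : ℚ) :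
    Pic13.IsBounded k X (fun G =>
      Coh.IsCoh G ∧ ∃ ι : G ⟶ F, Mono ι ∧ ShStab.IsPure X (cokernel ι) d ∧
        ∀ pG : Polynomial ℚ, ShStab.IsHilbPoly k X L G pG → b ≤ StabCat.hatSlope d pG) := by
  have := Fga.IntAdd.isNoetherian k X
  by_cases hF0 : IsZero F
  · refine Pic13.H508.Calc.isBounded_mono ?_ (Pic13.H508.Calc.isBounded_singleton F hF)
    rintro G ⟨-, ι, hι, -⟩
    have hG : IsZero G := IsZero.of_mono ι hF0
    exact ⟨hF0.iso hG⟩
  obtain ⟨n, e, i, he, hic, his, hpull⟩ := Pic13.H11.Emb.exists_embedding k X hL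
  have hF' := isCoh_push k i hF
  obtain ⟨r₀, hr₀⟩ := Fga.MumInputs.serre k n _ hF'
  obtain ⟨ρ, hρ⟩ := Gaga.H883.Serre.exists_epi_free (n := n) (R := k) hF'
  obtain ⟨N, p, hp⟩ := hρ ρ le_rfl
  have hN : 1 ≤ N := by
    rcases Nat.eq_zero_or_pos N with rfl | h
    · exfalso
      apply hF0
      have h1 : IsZero (tw ((Scheme.Modules.pushforward i).obj F) (ρ : ℤ)) :=
        IsZero.of_epi p (K848.FreeHp.isZero_freeMod_zero _)
      obtain ⟨e1⟩ := tw_tw ((Scheme.Modules.pushforward i).obj F) (ρ : ℤ) (-(ρ : ℤ))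
      rw [add_neg_cancel] at e1
      obtain ⟨e2⟩ := tw_zero ((Scheme.Modules.pushforward i).obj F)
      have h2 : IsZero (tw (tw ((Scheme.Modules.pushforward i).obj F) (ρ : ℤ)) (-(ρ : ℤ))) :=
        Functor.map_isZero (DCoh.tensorRightMod _) h1
      have h3 : IsZero ((Scheme.Modules.pushforward i).obj F) := h2.of_iso (e2.symm ≪≫ e1.symm)
      exact (Functor.map_isZero (Scheme.Modules.pullback i) h3).of_iso (counitIso k i F).symm
    · exact h
  obtain ⟨pF, hpF⟩ := K847.HilbBasic.exists_hilbPoly k hL.1 hF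
  set RF : ℚ[X] := pF.comp (C (e : ℚ) * Polynomial.X) with hRF
  obtain ⟨𝒮, h𝒮, hmain⟩ := K847.GLTwist.twisted.{u} n N hN (ρ : ℤ) d (alpha d RF)
    (|alpha (d - 1) RF| + |b / e| * alpha d RF)
  have hfin : Finite 𝒮 := h𝒮
  refine Pic13.H508.Calc.isBounded_mono ?_ (Pic13.H508.Calc.isBounded_iUnion (k := k) (X := X) (ι := 𝒮)
    (P := fun R G => Coh.IsCoh G ∧ Pic13.IsMRegular k i G (max (T.{u} n N hN ρ R.1) (r₀ - ρ) + ρ + n) ∧
      ∀ t : ℤ, (FGA.eulerCharLE k X (Pic13.twistOn k i G t) n : ℚ) = (RF - R.1).eval (t : ℚ))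
    fun R => S4285.result k n X i his _ _)
  rintro G ⟨hG, ι, hι, hQp, hb⟩
  -- the short exact sequence and its push forward
  have hS : (ShortComplex.mk ι (cokernel.π ι) (cokernel.condition ι)).ShortExact :=
    K847.StabBasic.shortExact_cokernel ι
  have hQ : Coh.IsCoh (cokernel ι) := K847.StabBasic.isCoh_cokernel' k ι hG hF
  have hS' := VarietyB.HHPush.shortExact_push i hS (VarietyB.HHPush.acyc_of_affine i G hG.1)
  set S := ShortComplex.mk ι (cokernel.π ι) (cokernel.condition ι) with hSdef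
  set S' := S.map (Scheme.Modules.pushforward i) with hS'def
  have hG' : Coh.IsCoh S'.X₁ := isCoh_push k i hG
  have hQ' : Coh.IsCoh S'.X₃ := isCoh_push k i hQ
  have hPQ : IsPure _ S'.X₃ d := by
    have := Fga.IntAdd.isNoetherian k (CohB1.ProjSpace n k)
    exact isPure_push i hQ hQp hQ'
  -- Hilbert polynomials
  obtain ⟨pG, hpG⟩ := K847.HilbBasic.exists_hilbPoly k hL.1 hG
  obtain ⟨pQ, hpQ⟩ := K847.HilbBasic.exists_hilbPoly k hL.1 hQ
  have hadd : pF = pG + pQ := K847.HilbBasic.hilbPoly_add k hL.1 S hS hG hF hQ hpG hpF hpQ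
  set RG : ℚ[X] := pG.comp (C (e : ℚ) * Polynomial.X) with hRG
  set RQ : ℚ[X] := pQ.comp (C (e : ℚ) * Polynomial.X) with hRQ
  have hR : RF = RG + RQ := by rw [hRF, hadd, add_comp]
  have hHPQ : HP k S'.X₃ RQ := HP_push k hL i his hpull hQ hpQ
  -- dimensions
  have hdF := K847.StabBasic.dim_support_eq_of_isPure hF hF0 hpure
  have hdG : topologicalKrullDim (CohB1.support G) ≤ (d : WithBot ℕ∞) :=
    (K847.StabBasic.dim_support_le_of_mono ι).trans hdF.le
  have hdQ : topologicalKrullDim (CohB1.support (cokernel ι)) ≤ (d : WithBot ℕ∞) :=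
    (K847.StabBasic.dim_support_le_of_epi (cokernel.π ι)).trans hdF.le
  have hed : (0 : ℚ) < (e : ℚ) ^ d := by positivity
  have hed1 : (1 : ℚ) ≤ (e : ℚ) ^ d := one_le_pow₀ (by exact_mod_cast he)
  have hG0 : 0 ≤ alpha d RG := by
    rw [hRG, alpha_comp]
    exact mul_nonneg hed.le (K847.HilbBasic.alpha_nonneg k hL hG hdG hpG)
  have hQ1 : alpha d RQ = 0 ∨ 1 ≤ alpha d RQ := by
    rw [hRQ, alpha_comp]
    have h1 := K847.HilbBasic.alpha_nonneg k hL hQ hdQ hpQ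
    obtain ⟨z, hz⟩ := K846.Facts.alpha_int d pQ (K847.HilbBasic.natDegree_le k hL.1 hQ hdQ hpQ)
      (fun m => ⟨_, (hpQ m).symm⟩)
    rw [hz] at h1 ⊢
    have h1' : (0 : ℤ) ≤ z := by exact_mod_cast h1
    rcases h1'.eq_or_lt with h2 | h2
    · left
      rw [← h2]; simp
    · right
      have h3 : (1 : ℚ) ≤ (z : ℚ) := by exact_mod_cast h2
      calc (1 : ℚ) = 1 * 1 := by ring
        _ ≤ (e : ℚ) ^ d * z := mul_le_mul hed1 h3 zero_le_one hed.le
  have hGs : RG = 0 ∨ (0 < alpha d RG ∧ b / e ≤ hatSlope d RG) := by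
    by_cases hG00 : IsZero G
    · left
      rw [hRG, K847.HilbBasic.hilbPoly_eq_zero k hG00 hpG, Polynomial.zero_comp]
    · right
      constructor
      · rw [hRG, alpha_comp]
        refine mul_pos hed (K847.HilbBasic.alpha_pos k hL hG ?_ hpG)
        exact hpure G ι hι hG hG00
      · rw [hRG, hatSlope_comp he hd]
        have he0 : (0 : ℚ) < e := by exact_mod_cast he
        exact div_le_div_of_nonneg_right (hb pG hpG) he0.le
  obtain ⟨hα, hμ⟩ := slope_bound hR (b / e) hG0 hQ1 hGs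
  -- the quotient
  obtain ⟨q, hq⟩ := exists_quot k hS' N (ρ : ℤ) p hp
  have hmem : RQ ∈ 𝒮 := hmain k S'.X₃ q hQ' hq hPQ RQ hHPQ hα (fun _ => hμ)
  refine ⟨⟨RQ, hmem⟩, hG, ?_, ?_⟩
  · refine K244.Reg.isMRegular_of_push k i hG.1 ?_
    exact reg_of_quot k hS' hQ' N hN (ρ : ℤ) r₀ p hp hHPQ hr₀
  · intro t
    rw [hilb_twistOn k hL i his hpull hG hpG t]
    change RG.eval (t : ℚ) = (RF - RQ).eval (t : ℚ)
    rw [hR, add_sub_cancel_right]

end main

end K437.GrBdd
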