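import Groth.Agent.ShStab.K847.GLTwist
import Groth.Agent.ShStab.K846.Facts
import Groth.Agent.Pic13.K244.Reg
import Groth.Agent.Pic13.H11.Transf
import Groth.Agent.Pic13.H508.Calc
import Groth.Agent.Pic13.H960.BddOf
import Groth.Agent.Gaga.H883.Serre
import Groth.Agent.S4285
import Groth.Agent.S1709

/-!
# Push forward of pure modules to projective space (namespace `K437.GrPush`)

* `isPure_push`: `i_* E` is pure of dimension `d` if `E` is, for `i` a closed immersion.
* `hilb_twistOn`, `HP_push`: Hilbert polynomial of `i_* M` on `P^n` in terms of that of `M`.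
* `slope_bound`: the numerical estimate.
-/

set_option autoImplicit false
universe u
open CategoryTheory CategoryTheory.Limits AlgebraicGeometry TopologicalSpace Polynomial

namespace K437.GrPush

open Groth.Agent Groth.Agent.Fga.PicMon ShStab K847.Pn K847.GL StabCat

/-- Purity of a push forward along a closed immersion. -/
theorem isPure_push {X Y : Scheme.{u}} (i : X ⟶ Y) [IsClosedImmersion i] [IsLocallyNoetherian X]
    [IsLocallyNoetherian Y] {E : X.Modules} (hE : Coh.IsCoh E) {d : ℕ} (hp : IsPure X E d)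
    (hE' : Coh.IsCoh ((Scheme.Modules.pushforward i).obj E)) :
    IsPure Y ((Scheme.Modules.pushforward i).obj E) d := by
  rw [K847.AssPure.isPure_iff hE'] 
  intro y hy
  have h1 := (S1709.result i E hE.1).1
  have hy' : y ∈ {s : ↥Y | Curv2.IsAssPoint ((Scheme.Modules.pushforward i).obj E) s} := hy
  rw [← h1] at hy'
  obtain ⟨x, hx, rfl⟩ := hy'
  have h2 := K847.AssPure.dim_closure_of_isPure hE hp (x := x) hx
  have hemb : Topology.IsClosedEmbedding i := i.isClosedEmbedding
  have h3 : closure ({i x} : Set Y) = i '' closure {x} := by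
    rw [← Set.image_singleton, hemb.closure_image_eq]
  change topologicalKrullDim (closure ({i x} : Set Y)) = _
  rw [h3, ← h2]
  exact ((hemb.isEmbedding.homeomorphImage (closure {x})).symm.isHomeomorph).topologicalKrullDim_eq

section num

theorem alpha_comp (e j : ℕ) (p : ℚ[X]) :
    alpha j (p.comp (C (e : ℚ) * Polynomial.X)) = (e : ℚ) ^ j * alpha j p := by
  rw [alpha, alpha, comp_C_mul_X_coeff]
  ring

theorem hatSlope_comp {e d : ℕ} (he : 1 ≤ e) (hd : 1 ≤ d) (p : ℚ[X]) :
    hatSlope d (p.comp (C (e : ℚ) * Polynomial.X)) = hatSlope d p / e := by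
  obtain ⟨d, rfl⟩ : ∃ d', d = d' + 1 := ⟨d - 1, by omega⟩
  have h0 : (e : ℚ) ≠ 0 := by positivity
  rw [hatSlope, hatSlope, alpha_comp, alpha_comp, Nat.add_sub_cancel]
  by_cases h : alpha (d + 1) p = 0
  · rw [h]; simp
  · field_simp
    ring

/-- The numerical estimate for the quotient. -/
theorem slope_bound {d : ℕ} {RF RG RQ : ℚ[X]} (h : RF = RG + RQ) (b : ℚ) (hG0 : 0 ≤ alpha d RG)
    (hQ : alpha d RQ = 0 ∨ 1 ≤ alpha d RQ) (hG : RG = 0 ∨ (0 < alpha d RG ∧ b ≤ hatSlope d RG)) :
    alpha d RQ ≤ alpha d RF ∧ hatSlope d RQ ≤ |alpha (d - 1) RF| + |b| * alpha d RF := by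
  have h1 : alpha d RF = alpha d RG + alpha d RQ := by rw [h, K847.PolyOrd.alpha_add]
  have h2 : alpha (d - 1) RF = alpha (d - 1) RG + alpha (d - 1) RQ := by rw [h, K847.PolyOrd.alpha_add]
  have hQ0 : 0 ≤ alpha d RQ := by rcases hQ with h | h <;> linarith
  have hF0 : 0 ≤ alpha d RF := by linarith
  refine ⟨by linarith, ?_⟩
  have hC : 0 ≤ |alpha (d - 1) RF| + |b| * alpha d RF := by positivity
  rcases hQ with hQ | hQ
  · rw [hatSlope, hQ, div_zero]; exact hC
  · have h3 : -alpha (d - 1) RG ≤ |b| * alpha d RF := by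
      rcases hG with hG | ⟨hG, hb⟩
      · rw [hG, K847.PolyOrd.alpha_zero, neg_zero]; positivity
      · rw [hatSlope, le_div_iff₀ hG] at hb
        have h4 : -b * alpha d RG ≤ |b| * alpha d RG := mul_le_mul_of_nonneg_right (neg_le_abs b) hG0
        have h5 : |b| * alpha d RG ≤ |b| * alpha d RF := mul_le_mul_of_nonneg_left (by linarith) (abs_nonneg b)
        linarith
    have h6 : alpha (d - 1) RQ ≤ |alpha (d - 1) RF| + |b| * alpha d RF := by
      have := le_abs_self (alpha (d - 1) RF)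
      linarith
    rw [hatSlope, div_le_iff₀ (by linarith)]
    exact h6.trans (le_mul_of_one_le_right hC hQ)

end num

section hilb

open Groth.Agent.Pic13.H11 Cls NumU Emb

variable (k : Type u) [Field k] {X : Scheme.{u}}

theorem mc_twistOn {n : ℕ} (i : X ⟶ CohB1.ProjSpace n k) (F : X.Modules)
    (d : ℤ) : mc (Pic13.twistOn k i F d) = pullU i (twistU k n 1) ^ d • mc F := by
  rw [Pic13.twistOn, mc_tensor, ← pullU_unit_val i (Sga67.SerreVB.isInvertible_twist n k d), Cls.smul_def,
    ← map_zpow, ← twistU_eq, mul_comm]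
  rfl

variable [X.Over (Spec (CommRingCat.of k))] [IsProper (X ↘ Spec (CommRingCat.of k))] {L : X.Modules}
  (hL : CohB1.IsAmple L) {n e : ℕ} (i : X ⟶ CohB1.ProjSpace n k) [IsClosedImmersion i]
  (hi : i ≫ CohB1.ProjSpace.toSpec n k = X ↘ Spec (CommRingCat.of k))
  (hpull : pullU i (twistU k n 1) = unit hL.1 ^ e)

include hpull in
theorem twistOn_iso (M : X.Modules) (m : ℕ) :
    Nonempty (Pic13.twistOn k i M (m : ℤ) ≅ ShStab.twist X L M (e * m)) := by
  rw [← mc_eq_iff, mc_twistOn, hpull]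
  unfold ShStab.twist
  rw [mc_tensor, mc_tensorPow, zpow_natCast, ← pow_mul, Cls.smul_def, Units.val_pow_eq_pow_val, unit_val, mul_comm]

include hi hpull in
theorem hilb_twistOn {M : X.Modules} (hM : Coh.IsCoh M) {p : ℚ[X]} (hp : ShStab.IsHilbPoly k X L M p) (t : ℤ) :
    (FGA.eulerCharLE k X (Pic13.twistOn k i M t) n : ℚ) = (p.comp (C (e : ℚ) * Polynomial.X)).eval (t : ℚ) := by
  have := Fga.IntAdd.isNoetherian k X
  have := Fga.HypSec.isSeparated k X
  obtain ⟨φ, hφ⟩ := Pic13.H960.BddOf.exists_polynomial k i hi M hM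
  have hco : ∀ d : ℤ, Coh.IsCoh (Pic13.twistOn k i M d) := fun d =>
    Ega3B.CohTensor.isCoh_tensor hM (Fdesc.LocGen.isInvertible_pullback _ (Sga67.SerreVB.isInvertible_twist n k d))
  have key : ∀ d : ℤ, FGA.eulerCharLE k X (Pic13.twistOn k i M d) n = Curv2.euler k X (Pic13.twistOn k i M d) :=
    fun d => (VarietyA.EulerAdd.euler_eq_sum k _ (n + 1) fun j hj =>
      Pic13.H952.FlatFam.subsingleton_HH_of_lt i _ (hco d).1 j (by omega)).symm
  have h1 : φ = p.comp (C (e : ℚ) * Polynomial.X) := K847.PolyOrd.eq_of_eval_nat fun m => by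
    obtain ⟨f⟩ := twistOn_iso k hL i hpull M m
    have h2 := hφ (m : ℤ)
    rw [key, K847.HilbBasic.euler_congr k f, hp (e * m)] at h2
    rw [Int.cast_natCast] at h2
    rw [← h2, eval_comp]
    simp
  rw [hφ t, h1]

include hi hpull in
theorem HP_push {M : X.Modules} (hM : Coh.IsCoh M) {p : ℚ[X]} (hp : ShStab.IsHilbPoly k X L M p) :
    HP k ((Scheme.Modules.pushforward i).obj M) (p.comp (C (e : ℚ) * Polynomial.X)) := by
  intro t
  have hM' := Pic13.H951.PresentX.isCoh_push k i hM
  have h1 := hilb_twistOn k hL i hi hpull hM hp t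
  rw [← Pic13.H951.PresentX.euler_push k i hi M t n] at h1
  rw [← h1]
  have h2 := isCoh_tw hM' t
  have h3 : FGA.eulerCharLE k (CohB1.ProjSpace n k) (tw ((Scheme.Modules.pushforward i).obj M) t) n =
      Curv2.euler k (CohB1.ProjSpace n k) (tw ((Scheme.Modules.pushforward i).obj M) t) :=
    (VarietyA.EulerAdd.euler_eq_sum k _ (n + 1) fun j hj => by
      have := h2.1
      exact S0022.result n k _ j (by omega)).symm
  rw [h3]

end hilb

end K437.GrPush
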