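import Groth.Agent.Coherent.K437.OpenPt
import Groth.Agent.Variety.K425.FibEuler
import Groth.Agent.FlatB.FppfDom

/-!
# Openness of the complement of the bad locus in flat families with varying Hilbert polynomial

`exists_open`: `f : X ⟶ S` proper over a Noetherian scheme, `L` very ample relative to `f`, `F` coherent and flat
over `S`; for every family `B P` of sets of destabilising polynomials there is an open `U ⊆ S` such that for every
point `t` of `S` with values in an algebraically closed field with `dim supp F_t = d`, the image of `t` is in `U` iff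
no coherent submodule of `F_t` has its Hilbert polynomial in `B (P_t)`.
-/

set_option autoImplicit false
universe u
open CategoryTheory CategoryTheory.Limits AlgebraicGeometry StabCat

namespace K437.OpenFam

open Groth.Agent K846 K846.FieldPt K846.OpenMain K846.OpenFib K846.BadPoly K849.PolyOrd

variable {X S : Scheme.{u}} (f : X ⟶ S)

/-- The set of points where the Hilbert polynomial of the fibre is `P`. -/
def SP (L F : X.Modules) (P : Polynomial ℚ) : Set S :=
  {s | @ShStab.IsHilbPoly (S.residueField s) _ (f.fiber s) (fibOver f s)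
    (CohIII.fiberMod f L s) (CohIII.fiberMod f F s) P}

variable [IsProper f] {L : X.Modules} {F : X.Modules}

theorem isOpen_SP [IsLocallyNoetherian S] (hLi : PicF.IsInvertible L) (hF : Coh.IsCoh F)
    (hfl : FlatMod.IsFlatOver f F) (P : Polynomial ℚ) : IsOpen (SP f L F P) := by
  have : IsLocallyNoetherian X := LocallyOfFiniteType.isLocallyNoetherian f
  have : LocallyOfFinitePresentation f := FlatB.FppfDom.locallyOfFinitePresentation_of_isLocallyNoetherian f
  rw [isOpen_iff_mem_nhds]
  intro s hs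
  obtain ⟨U, hsU, hU⟩ := K425.FibEuler.snapper_locallyConstant f F (Twist.isFP_of_isCoh hF) hfl 1
    (fun _ => L) (fun _ => hLi) s
  refine mem_nhds_iff.mpr ⟨U, fun s' hs' m => ?_, U.2, hsU⟩
  have h1 := hU s' hs' (fun _ => m)
  obtain ⟨e⟩ := Twist.nonempty_pull_twist (f.fiberι s) F hLi m
  obtain ⟨e'⟩ := Twist.nonempty_pull_twist (f.fiberι s') F hLi m
  have h2 := hs m
  let := fibOver f s
  let := fibOver f s'
  have h3 := K847.HilbBasic.euler_congr (S.residueField s) e
  have h4 := K847.HilbBasic.euler_congr (S.residueField s') e'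
  rw [← h2]
  refine congrArg (fun z : ℤ => (z : ℚ)) ?_
  exact h4.symm.trans (h1.trans h3)

/-- The Hilbert polynomial of a field-valued fibre. -/
theorem isHilbPoly_iff_mem [IsLocallyNoetherian S] (hLi : PicF.IsInvertible L) (hF : Coh.IsCoh F)
    {K : Type u} [Field K] {t : Spec (CommRingCat.of K) ⟶ S} {Y : Scheme.{u}} {p : Y ⟶ X}
    {q : Y ⟶ Spec (CommRingCat.of K)} (H : IsPullback p q f t) (pt : Spec (CommRingCat.of K))
    (P : Polynomial ℚ) :
    @ShStab.IsHilbPoly K _ Y ⟨q⟩ ((Scheme.Modules.pullback p).obj L) ((Scheme.Modules.pullback p).obj F) P ↔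
      t pt ∈ SP f L F P := by
  have : IsLocallyNoetherian X := LocallyOfFiniteType.isLocallyNoetherian f
  obtain ⟨s, hs⟩ : ∃ s, t pt = s := ⟨_, rfl⟩
  rw [hs]
  obtain ⟨_, ht⟩ := exists_algebra t pt hs
  clear hs
  let := fibOver f s
  let : Y.Over (Spec (CommRingCat.of K)) := ⟨q⟩
  have : IsProper (f.fiber s ↘ Spec (CommRingCat.of (S.residueField s))) := isProper_fiber f s
  subst ht
  obtain ⟨g, hg, Hg⟩ := exists_square (K := S.residueField s) (K' := K) f
    (isPullback_fiber f s) H
  have Hg' : IsPullback g (Y ↘ Spec (CommRingCat.of K))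
    (f.fiber s ↘ Spec (CommRingCat.of (S.residueField s)))
    (Spec.map (CommRingCat.ofHom (algebraMap (S.residueField s) K))) := Hg
  have hL' : PicF.IsInvertible (CohIII.fiberMod f L s) :=
    Groth.Agent.Fdesc.LocGen.isInvertible_pullback _ hLi
  have hF' : Coh.IsCoh (CohIII.fiberMod f F s) :=
    have := Ascent.isLocallyNoetherian_of_proper (S.residueField s) (f.fiber s)
    Groth.Agent.FormalA.PullbackQC.isCoh_pullback _ _ hF
  let eL := (Scheme.Modules.pullbackComp g (f.fiberι s)).app L ≪≫ (Scheme.Modules.pullbackCongr hg).app L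
  let eF := (Scheme.Modules.pullbackComp g (f.fiberι s)).app F ≪≫ (Scheme.Modules.pullbackCongr hg).app F
  constructor
  · intro h
    exact (Ascent.isHilbPoly_pull g Hg' hL' hF').mp (Twist.isHilbPoly_iso eL.symm eF.symm h)
  · intro h
    exact Twist.isHilbPoly_iso eL eF ((Ascent.isHilbPoly_pull g Hg' hL' hF').mpr h)

theorem SP_unique {s : S} {P P' : Polynomial ℚ} (h : s ∈ SP f L F P) (h' : s ∈ SP f L F P') : P = P' := by
  let := fibOver f s
  exact K847.HilbBasic.hilbPoly_unique (S.residueField s) h h'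

variable [IsNoetherian S] (hL : RelAmple.IsRelVeryAmplePn f L) (hF : Coh.IsCoh F)
  (hfl : FlatMod.IsFlatOver f F) {d : ℕ}

include hL hF hfl

theorem isOpen_W {P : Polynomial ℚ} (hd : P.natDegree ≤ d) (h0 : 0 < alpha d P) {B : Polynomial ℚ → Prop}
    (hB : BadSet d P B) : IsOpen (SP f L F P ∩ (Z f L F (fun Q => B (P - Q)))ᶜ) := by
  have hLi := K846.OpenVA.isInvertible_of_veryAmple hL
  have hXn : IsLocallyNoetherian X := LocallyOfFiniteType.isLocallyNoetherian f
  let U : S.Opens := ⟨SP f L F P, isOpen_SP f hLi hF hfl P⟩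
  let j : (U : Scheme.{u}) ⟶ S := U.ι
  let fU : pullback f j ⟶ (U : Scheme.{u}) := pullback.snd f j
  let LU := (Scheme.Modules.pullback (pullback.fst f j)).obj L
  let FU := (Scheme.Modules.pullback (pullback.fst f j)).obj F
  have hcomp : CompactSpace (U : Scheme.{u}) := by
    have : TopologicalSpace.NoetherianSpace S := inferInstance
    exact isCompact_iff_compactSpace.mp (TopologicalSpace.NoetherianSpace.isCompact (U : Set S))
  have hUn : IsNoetherian (U : Scheme.{u}) := {}
  have hLU : RelAmple.IsRelVeryAmplePn fU LU := K385.VeryAmpleBC.of_isPullback (IsPullback.of_hasPullback f j) hL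
  have hLUi : PicF.IsInvertible LU := Fdesc.LocGen.isInvertible_pullback _ hLi
  have hFU : Coh.IsCoh FU := FormalA.PullbackQC.isCoh_pullback _ _ hF
  have hHP : FHilb fU LU FU P := by
    intro K _ t Y p q H
    have H' := H.paste_horiz (IsPullback.of_hasPullback f j)
    have h1 : (t ≫ j) (IsLocalRing.closedPoint K) ∈ SP f L F P := (t (IsLocalRing.closedPoint K)).2
    have h2 := (isHilbPoly_iff_mem f hLi hF H' (IsLocalRing.closedPoint K) P).mpr h1
    let : Y.Over (Spec (CommRingCat.of K)) := ⟨q⟩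
    exact Twist.isHilbPoly_iso ((Scheme.Modules.pullbackComp p (pullback.fst f j)).app L).symm
      ((Scheme.Modules.pullbackComp p (pullback.fst f j)).app F).symm h2
  have hcl := isClosed_Z_bad hLUi (fAmple_of_veryAmple hLU) hFU hHP hd h0 hB
    (K846.OpenVA.gls hLU hFU d _ _).gLem (K846.OpenVA.isClosed_Z hLU hFU)
  have key : SP f L F P ∩ (Z f L F (fun Q => B (P - Q)))ᶜ = j '' (Z fU LU FU (fun Q => B (P - Q)))ᶜ := by
    ext s
    constructor
    · rintro ⟨h1, h2⟩
      exact ⟨⟨s, h1⟩, fun h3 => h2 ((K846.Localize.mem_Z_open_iff f F hLi j _ ⟨s, h1⟩).mp h3), rfl⟩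
    · rintro ⟨y, hy, rfl⟩
      exact ⟨y.2, fun h3 => hy ((K846.Localize.mem_Z_open_iff f F hLi j _ y).mpr h3)⟩
  rw [key]
  exact j.isOpenEmbedding.isOpenMap _ hcl.isOpen_compl

/-- **Openness.** -/
theorem exists_open (B : Polynomial ℚ → Polynomial ℚ → Prop)
    (hB : ∀ P : Polynomial ℚ, P.natDegree ≤ d → 0 < alpha d P → BadSet d P (B P)) :
    ∃ U : S.Opens, ∀ (K : Type u) [Field K] [IsAlgClosed K] (t : Spec (CommRingCat.of K) ⟶ S)
      (pt : Spec (CommRingCat.of K)) (P : Polynomial ℚ),
      @ShStab.IsHilbPoly K _ (pullback f t) ⟨pullback.snd f t⟩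
        ((Scheme.Modules.pullback (pullback.fst f t)).obj L)
        ((Scheme.Modules.pullback (pullback.fst f t)).obj F) P → P.natDegree ≤ d → 0 < alpha d P →
      (t pt ∈ U ↔ ∀ (F₀ : (pullback f t).Modules) (ι : F₀ ⟶ (Scheme.Modules.pullback (pullback.fst f t)).obj F),
        Mono ι → Coh.IsCoh F₀ →
          ¬ B P (@Gies.hp K _ (pullback f t) ⟨pullback.snd f t⟩
            ((Scheme.Modules.pullback (pullback.fst f t)).obj L) F₀)) := by
  have hLi := K846.OpenVA.isInvertible_of_veryAmple hL
  have hXn : IsLocallyNoetherian X := LocallyOfFiniteType.isLocallyNoetherian f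
  let W : Set S := ⋃ P ∈ {P : Polynomial ℚ | P.natDegree ≤ d ∧ 0 < alpha d P},
    (SP f L F P ∩ (Z f L F (fun Q => B P (P - Q)))ᶜ)
  have hW : IsOpen W := isOpen_biUnion fun P hP => isOpen_W f hL hF hfl hP.1 hP.2 (hB P hP.1 hP.2)
  refine ⟨⟨W, hW⟩, ?_⟩
  intro K _ _ t pt P hP hd h0
  let : (pullback f t).Over (Spec (CommRingCat.of K)) := ⟨pullback.snd f t⟩
  have H : IsPullback (pullback.fst f t) (pullback.snd f t) f t := IsPullback.of_hasPullback f t
  have hpr : IsProper (pullback f t ↘ Spec (CommRingCat.of K)) := MorphismProperty.of_isPullback H ‹_›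
  have hYn := Ascent.isLocallyNoetherian_of_proper K (pullback f t)
  have hmem : t pt ∈ SP f L F P := (isHilbPoly_iff_mem f hLi hF H pt P).mp hP
  have hLt : CohB1.IsAmple ((Scheme.Modules.pullback (pullback.fst f t)).obj L) :=
    fAmple_of_veryAmple hL K t _ _ _ H
  have hFt : Coh.IsCoh ((Scheme.Modules.pullback (pullback.fst f t)).obj F) :=
    FormalA.PullbackQC.isCoh_pullback _ _ hF
  have hpF : Gies.hp K ((Scheme.Modules.pullback (pullback.fst f t)).obj L)
      ((Scheme.Modules.pullback (pullback.fst f t)).obj F) = P := Gies.hp_eq hP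
  have h1 : t pt ∈ W ↔ t pt ∉ Z f L F (fun Q => B P (P - Q)) := by
    constructor
    · intro h
      simp only [W, Set.mem_iUnion, exists_prop] at h
      obtain ⟨P', -, h2, h3⟩ := h
      obtain rfl := SP_unique f hmem h2
      exact h3
    · intro h
      simp only [W, Set.mem_iUnion, exists_prop]
      exact ⟨P, ⟨hd, h0⟩, hmem, h⟩
  have h2 := K437.OpenPt.mem_Z_iff f hL hF H (fun Q => B P (P - Q)) pt
  have h3 := hasQuot_iff (K := K) hLt hFt (B P)
  rw [hpF] at h3
  change t pt ∈ W ↔ _
  rw [h1, h2]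
  constructor
  · intro h F₀ ι hι hF₀ hb
    exact h (h3.mpr ⟨F₀, ι, hι, hF₀, hb⟩)
  · intro h hq
    obtain ⟨F₀, ι, hι, hF₀, hb⟩ := h3.mp hq
    exact h F₀ ι hι hF₀ hb

end K437.OpenFam
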