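import Groth.Agent.ShStab.K846.QuotPhi
import Groth.Agent.ShStab.K846.OpenVA
import Mathlib.AlgebraicGeometry.AlgClosed.Basic

/-!
# Quotients with a given Hilbert polynomial: points with values in an algebraically closed field

`mem_Z_iff`: for `K` algebraically closed and `t : Spec K ⟶ S`, the image of `t` lies in `Z f L F B` iff the fibre
of `F` over `t` itself has a coherent quotient whose Hilbert polynomial satisfies `B`.
-/

set_option autoImplicit false
universe u
open CategoryTheory CategoryTheory.Limits AlgebraicGeometry TensorProduct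

namespace K437.OpenPt

open Groth.Agent K846.FieldPt

theorem exists_section {k : Type u} [Field k] [IsAlgClosed k] {X : Scheme.{u}} (f : X ⟶ Spec (CommRingCat.of k))
    [LocallyOfFiniteType f] [Nonempty X] : ∃ s : Spec (CommRingCat.of k) ⟶ X, s ≫ f = 𝟙 _ := by
  have : JacobsonSpace X := LocallyOfFiniteType.jacobsonSpace f
  have h : (closedPoints X).Nonempty := by
    rw [Set.nonempty_iff_ne_empty]
    intro h0
    have h1 := closure_closedPoints (X := X)
    rw [h0, closure_empty] at h1
    exact Set.empty_ne_univ h1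
  obtain ⟨x, hx⟩ := h
  exact ⟨pointOfClosedPoint f x hx, pointOfClosedPoint_comp f x hx⟩

/-- A common extension of two field extensions. -/
theorem exists_common (k K K' : Type u) [Field k] [Field K] [Field K'] [Algebra k K] [Algebra k K'] :
    ∃ (L : Type u) (_ : Field L) (_ : Algebra K L) (_ : Algebra K' L),
      (algebraMap K L).comp (algebraMap k K) = (algebraMap K' L).comp (algebraMap k K') := by
  obtain ⟨m, hm⟩ := Ideal.exists_maximal (K ⊗[k] K')
  let : Field ((K ⊗[k] K') ⧸ m) := Ideal.Quotient.field m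
  let a : K →+* (K ⊗[k] K') ⧸ m := (Ideal.Quotient.mk m).comp Algebra.TensorProduct.includeLeftRingHom
  let b : K' →+* (K ⊗[k] K') ⧸ m :=
    (Ideal.Quotient.mk m).comp (Algebra.TensorProduct.includeRight (R := k) (A := K) (B := K')).toRingHom
  refine ⟨(K ⊗[k] K') ⧸ m, inferInstance, a.toAlgebra, b.toAlgebra, ?_⟩
  ext x
  change Ideal.Quotient.mk m ((algebraMap k K x) ⊗ₜ[k] 1) = Ideal.Quotient.mk m (1 ⊗ₜ[k] (algebraMap k K' x))
  rw [Algebra.algebraMap_eq_smul_one, Algebra.algebraMap_eq_smul_one, TensorProduct.smul_tmul]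

/-- Over an algebraically closed field, a quotient with a given Hilbert polynomial over some extension gives one over
the field itself. -/
theorem hasQuot_descend {K : Type u} [Field K] [IsAlgClosed K] {Y : Scheme.{u}}
    {q : Y ⟶ Spec (CommRingCat.of K)} [IsProper q] {L F : Y.Modules} (hL : RelAmple.IsRelVeryAmplePn q L)
    (hF : Coh.IsCoh F) {Φ : Polynomial ℚ} (h : (Z q L F (fun Q => Q = Φ)).Nonempty) :
    HasQuot K q L F (fun Q => Q = Φ) := by
  have hLi : PicF.IsInvertible L := K846.OpenVA.isInvertible_of_veryAmple (f := q) hL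
  obtain ⟨n, g₀, hcl, ⟨e⟩⟩ := K846.OpenVA.exists_toPS hL
  obtain ⟨Q, Ku, hQp, hQn, -, h1, h2⟩ := K846.QuotPhi.exists_quotPhi (f := q) e hF Φ
  obtain ⟨s, K', _, t, pt, hpt, G, π, hπ, hG, Q', hQ', rfl⟩ := h
  obtain ⟨g, -⟩ := h2 K' t G π hG hQ'
  have hne : Nonempty Q.left := ⟨g.left pt⟩
  obtain ⟨σ, hσ⟩ := exists_section Q.hom
  let g' : Over.mk (𝟙 (Spec (CommRingCat.of K))) ⟶ Q := Over.homMk σ hσ
  obtain ⟨h3, h4⟩ := h1 K (𝟙 _) g'
  have h5 : HasQuot K (pullback.snd q (𝟙 (Spec (CommRingCat.of K))))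
      ((Scheme.Modules.pullback (pullback.fst q (𝟙 (Spec (CommRingCat.of K))))).obj L)
      ((Scheme.Modules.pullback (pullback.fst q (𝟙 (Spec (CommRingCat.of K))))).obj F) (fun Q => Q = Q') :=
    ⟨_, cokernel.π (FGA.quotPull q F g' Ku.1).arrow, inferInstance, h4, _, h3, rfl⟩
  have h6 := hasQuot_trans q hLi F (K := K) (K' := K) (t := 𝟙 _) (t' := 𝟙 _) (by
    have : CommRingCat.ofHom (algebraMap K K) = 𝟙 _ := rfl
    rw [this, Spec.map_id, Category.id_comp]) (IsPullback.of_hasPullback q (𝟙 _))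
    (p' := 𝟙 Y) (q' := q) (IsPullback.of_horiz_isIso ⟨by simp⟩) h5
  exact h6.iso ((Scheme.Modules.pullbackId Y).app L) ((Scheme.Modules.pullbackId Y).app F)

/-- **Points with values in an algebraically closed field.** -/
theorem mem_Z_iff {X S : Scheme.{u}} (f : X ⟶ S) [IsProper f] {L : X.Modules}
    (hL : RelAmple.IsRelVeryAmplePn f L) {F : X.Modules} (hF : Coh.IsCoh F) {K : Type u} [Field K] [IsAlgClosed K]
    {t : Spec (CommRingCat.of K) ⟶ S} {Y : Scheme.{u}} {p : Y ⟶ X} {q : Y ⟶ Spec (CommRingCat.of K)}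
    (H : IsPullback p q f t) (B : Polynomial ℚ → Prop) (pt : Spec (CommRingCat.of K)) :
    t pt ∈ Z f L F B ↔
      HasQuot K q ((Scheme.Modules.pullback p).obj L) ((Scheme.Modules.pullback p).obj F) B := by
  have hLi : PicF.IsInvertible L := K846.OpenVA.isInvertible_of_veryAmple (f := f) hL
  constructor
  swap
  · intro h
    exact mem_Z_of_isPullback f hLi F H h pt
  rintro ⟨K', _, t', pt', hpt, G, π, hπ, hG, Q', hQ', hB⟩
  have hq : HasQuot K' (pullback.snd f t') ((Scheme.Modules.pullback (pullback.fst f t')).obj L)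
      ((Scheme.Modules.pullback (pullback.fst f t')).obj F) (fun Q => Q = Q') := ⟨G, π, hπ, hG, Q', hQ', rfl⟩
  obtain ⟨_, ht'⟩ := exists_algebra t' pt' hpt
  obtain ⟨_, ht⟩ := exists_algebra t pt rfl
  obtain ⟨M, _, _, _, hM⟩ := exists_common (S.residueField (t pt)) K K'
  let a : Spec (CommRingCat.of M) ⟶ Spec (CommRingCat.of K) := Spec.map (CommRingCat.ofHom (algebraMap K M))
  let b : Spec (CommRingCat.of M) ⟶ Spec (CommRingCat.of K') := Spec.map (CommRingCat.ofHom (algebraMap K' M))
  have hab : a ≫ t = b ≫ t' := by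
    rw [ht, ht', ← Category.assoc, ← Category.assoc, ← Spec.map_comp, ← Spec.map_comp]
    congr 2
    ext1
    exact hM
  have hp : IsProper q := MorphismProperty.of_isPullback H ‹_›
  have hLY : RelAmple.IsRelVeryAmplePn q ((Scheme.Modules.pullback p).obj L) :=
    K385.VeryAmpleBC.of_isPullback H hL
  have hYn : IsLocallyNoetherian Y := LocallyOfFiniteType.isLocallyNoetherian q
  have hFY : Coh.IsCoh ((Scheme.Modules.pullback p).obj F) := FormalA.PullbackQC.isCoh_pullback _ _ hF
  have H2 : IsPullback (pullback.fst q a ≫ p) (pullback.snd q a) f (b ≫ t') :=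
    hab ▸ (IsPullback.of_hasPullback q a).paste_horiz H
  have h1 := hasQuot_trans f hLi F (K := K') (K' := M) (t := t') (t' := b ≫ t') rfl
    (IsPullback.of_hasPullback f t') H2 hq
  have h2 := h1.iso ((Scheme.Modules.pullbackComp (pullback.fst q a) p).app L).symm
    ((Scheme.Modules.pullbackComp (pullback.fst q a) p).app F).symm
  have hZ : (Z q ((Scheme.Modules.pullback p).obj L) ((Scheme.Modules.pullback p).obj F)
      (fun Q => Q = Q')).Nonempty :=
    ⟨_, M, inferInstance, a, IsLocalRing.closedPoint M, rfl, h2⟩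
  exact (hasQuot_descend hLY hFY hZ).mono fun Q h => h ▸ hB

end K437.OpenPt
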