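import Groth.Agent.Coherent.K437.OpenFam
import Groth.Agent.Coherent.K168.HNChain

/-!
# Openness of `p`- and slope-(semi)stability on closed subschemes of `P^n_S` at complex points
-/

set_option autoImplicit false
universe u
open CategoryTheory CategoryTheory.Limits AlgebraicGeometry StabCat Polynomial

namespace K437.OpenRows

open Groth.Agent K846 K846.FieldPt K846.OpenMain K846.OpenFib K846.BadPoly K849.PolyOrd K849.TopPart

section bad

variable {d : ℕ} {P : ℚ[X]}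

/-- Destabilising polynomials: slope semistability. -/
def Bms (d : ℕ) (P Q : ℚ[X]) : Prop :=
  0 < alpha d Q ∧ alpha d Q < alpha d P ∧ ¬ hatSlope d Q ≤ hatSlope d P

/-- Destabilising polynomials: slope stability. -/
def Bmt (d : ℕ) (P Q : ℚ[X]) : Prop :=
  0 < alpha d Q ∧ alpha d Q < alpha d P ∧ ¬ hatSlope d Q < hatSlope d P

/-- The second coefficient increases when adding a nonnegative polynomial of smaller degree. -/
theorem hatSlope_le_add {Q R : ℚ[X]} (hQ : 0 < alpha d Q) (hR : 0 ≤ toPV R) (hα : alpha d R = 0)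
    (hdR : R.natDegree ≤ d) : alpha d (Q + R) = alpha d Q ∧ hatSlope d Q ≤ hatSlope d (Q + R) := by
  have h1 : alpha d (Q + R) = alpha d Q := by rw [K847.PolyOrd.alpha_add, hα, add_zero]
  refine ⟨h1, ?_⟩
  rw [hatSlope, hatSlope, h1, K847.PolyOrd.alpha_add]
  apply div_le_div_of_nonneg_right _ hQ.le
  have h2 : 0 ≤ alpha (d - 1) R := by
    rcases Nat.eq_zero_or_pos d with rfl | hd
    · exact hα.ge
    · have h3 : R.coeff d = 0 := by
        have h4 : ((d.factorial : ℕ) : ℚ) * R.coeff d = 0 := hα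
        rcases mul_eq_zero.mp h4 with h5 | h5
        · exact absurd h5 (by positivity)
        · exact h5
      have h4 := coeff_pred_nonneg hd hR hdR h3
      have h5 : alpha (d - 1) R = (((d - 1).factorial : ℕ) : ℚ) * R.coeff (d - 1) := rfl
      rw [h5]
      positivity
  linarith

theorem badSet_ms (h0 : 0 < alpha d P) : BadSet d P (Bms d P) where
  add Q R hQ _ _ hR hαR hdR := by
    obtain ⟨h1, h2, h3⟩ := hQ
    obtain ⟨h4, h5⟩ := hatSlope_le_add h1 hR hαR hdR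
    exact ⟨h4 ▸ h1, h4 ▸ h2, fun h => h3 (h5.trans h)⟩
  ne Q hQ _ _ h := hQ.2.1.ne h
  slope Q hQ _ _ _ := by
    obtain ⟨h1, h2, h3⟩ := hQ
    rw [not_le, hatSlope, hatSlope, div_lt_div_iff₀ h0 h1] at h3
    linarith

theorem badSet_mt (h0 : 0 < alpha d P) : BadSet d P (Bmt d P) where
  add Q R hQ _ _ hR hαR hdR := by
    obtain ⟨h1, h2, h3⟩ := hQ
    obtain ⟨h4, h5⟩ := hatSlope_le_add h1 hR hαR hdR
    exact ⟨h4 ▸ h1, h4 ▸ h2, fun h => h3 (lt_of_le_of_lt h5 h)⟩
  ne Q hQ _ _ h := hQ.2.1.ne h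
  slope Q hQ _ _ _ := by
    obtain ⟨h1, h2, h3⟩ := hQ
    rw [not_lt, hatSlope, hatSlope, div_le_div_iff₀ h0 h1] at h3
    linarith

end bad

section crit

variable (k : Type u) [Field k] {X : Scheme.{u}} [X.Over (Spec (CommRingCat.of k))]
  [IsProper (X ↘ Spec (CommRingCat.of k))] {L : X.Modules} (hL : CohB1.IsAmple L) {d : ℕ} {E : X.Modules}
  (hE : Coh.IsCoh E)
  (hp : topologicalKrullDim ↥(CohB1.support E) = (d : WithBot ℕ∞) ∧
    ∀ (G : X.Modules) (ι : G ⟶ E), Mono ι → Coh.IsCoh G → ¬ IsZero G →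
      topologicalKrullDim ↥(CohB1.support G) = (d : WithBot ℕ∞))

include hL hE hp

theorem facts_E : (Gies.hp k L E).natDegree ≤ d ∧ 0 < alpha d (Gies.hp k L E) := by
  have H := K846.Facts.hilbFacts k hL
  exact ⟨K847.HilbBasic.natDegree_le k hL.1 hE hp.1.le (Gies.isHilbPoly_hp H hE),
    K847.HilbBasic.alpha_pos k hL hE hp.1 (Gies.isHilbPoly_hp H hE)⟩

theorem facts_G (G : X.Modules) (ι : G ⟶ E) (hι : Mono ι) (hG : Coh.IsCoh G) (h0 : ¬ IsZero G) :
    (Gies.hp k L G).natDegree ≤ d ∧ 0 < alpha d (Gies.hp k L G) := by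
  have H := K846.Facts.hilbFacts k hL
  have h1 := hp.2 G ι hι hG h0
  exact ⟨K847.HilbBasic.natDegree_le k hL.1 hG h1.le (Gies.isHilbPoly_hp H hG),
    K847.HilbBasic.alpha_pos k hL hG h1 (Gies.isHilbPoly_hp H hG)⟩

omit hE hp in
theorem alpha_pos_imp {G : X.Modules} (h : 0 < alpha d (Gies.hp k L G)) : ¬ IsZero G := by
  intro hz
  rw [Gies.hp_eq (K847.HilbBasic.isHilbPoly_zero k hz), K847.PolyOrd.alpha_zero] at h
  exact lt_irrefl _ h

theorem ss_iff : (∀ (G : X.Modules) (ι : G ⟶ E), Mono ι → Coh.IsCoh G → ¬ IsZero G →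
      ∀ φ ψ : ℚ[X], ShStab.IsHilbPoly k X L E φ → ShStab.IsHilbPoly k X L G ψ → W4c2simpsonmod1.RedLE d ψ φ) ↔
    ∀ (G : X.Modules) (ι : G ⟶ E), Mono ι → Coh.IsCoh G → ¬ Bss d (Gies.hp k L E) (Gies.hp k L G) := by
  have H := K846.Facts.hilbFacts k hL
  obtain ⟨hE1, hE2⟩ := facts_E k hL hE hp
  constructor
  · intro h G ι hι hG hb
    apply hb
    by_cases h0 : IsZero G
    · rw [Gies.hp_eq (K847.HilbBasic.isHilbPoly_zero k h0), redLE_pv, K847.PolyOrd.alpha_zero, zero_smul, toPV_zero,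
        smul_zero]
    · obtain ⟨hG1, hG2⟩ := facts_G k hL hE hp G ι hι hG h0
      exact (K168.HNChain.redLE_iff hG2 hE2).mp
        (h G ι hι hG h0 _ _ (Gies.isHilbPoly_hp H hE) (Gies.isHilbPoly_hp H hG))
  · intro h G ι hι hG h0 φ ψ hφ hψ
    obtain ⟨hG1, hG2⟩ := facts_G k hL hE hp G ι hι hG h0
    have h1 := h G ι hι hG
    rw [Gies.hp_eq hφ] at h1 hE2
    rw [Gies.hp_eq hψ] at h1 hG2
    exact (K168.HNChain.redLE_iff hG2 hE2).mpr (not_not.mp h1)

theorem st_iff [IsLocallyNoetherian X] : (∀ (G : X.Modules) (ι : G ⟶ E), Mono ι → Coh.IsCoh G → ¬ IsZero G →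
      ¬ IsIso ι →
      ∀ φ ψ : ℚ[X], ShStab.IsHilbPoly k X L E φ → ShStab.IsHilbPoly k X L G ψ → W4c2simpsonmod1.RedLT d ψ φ) ↔
    ∀ (G : X.Modules) (ι : G ⟶ E), Mono ι → Coh.IsCoh G → ¬ Bst d (Gies.hp k L E) (Gies.hp k L G) := by
  have H := K846.Facts.hilbFacts k hL
  obtain ⟨hE1, hE2⟩ := facts_E k hL hE hp
  constructor
  · rintro h G ι hι hG ⟨hb1, hb2, hb3⟩
    apply hb3
    have h0 : ¬ IsZero G := fun h0 => hb1 (Gies.hp_eq (K847.HilbBasic.isHilbPoly_zero k h0))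
    have h1 : ¬ IsIso ι := fun h1 => hb2 (Gies.hp_eq (K847.HilbBasic.isHilbPoly_iso k (asIso ι).symm
      (Gies.isHilbPoly_hp H hE)))
    obtain ⟨hG1, hG2⟩ := facts_G k hL hE hp G ι hι hG h0
    exact (K168.HNChain.redLT_iff hG2 hE2).mp
        (h G ι hι hG h0 h1 _ _ (Gies.isHilbPoly_hp H hE) (Gies.isHilbPoly_hp H hG))
  · intro h G ι hι hG h0 h1 φ ψ hφ hψ
    obtain ⟨hG1, hG2⟩ := facts_G k hL hE hp G ι hι hG h0
    have h2 := h G ι hι hG
    have h3 : Gies.hp k L G ≠ 0 := K846.Bad.hp_ne_zero H hG h0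
    have h4 : Gies.hp k L G ≠ Gies.hp k L E := fun h4 => h1 (K846.Bad.isIso_of_hp_eq H ⟨hE, hE1⟩ hG ι h4)
    have h5 : RedLT d (Gies.hp k L G) (Gies.hp k L E) := by
      by_contra h5
      exact h2 ⟨h3, h4, h5⟩
    have h6 := (K168.HNChain.redLT_iff hG2 hE2).mpr h5
    rwa [Gies.hp_eq hφ, Gies.hp_eq hψ] at h6

theorem ms_iff [IsLocallyNoetherian X] : (∀ (G : X.Modules) (ι : G ⟶ E), Mono ι → Coh.IsCoh G → ¬ IsZero G →
      ∀ φ ψ : ℚ[X], ShStab.IsHilbPoly k X L E φ → ShStab.IsHilbPoly k X L G ψ →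
        W4c2simpsonmod1.slopeOf d ψ ≤ W4c2simpsonmod1.slopeOf d φ) ↔
    ∀ (G : X.Modules) (ι : G ⟶ E), Mono ι → Coh.IsCoh G → ¬ Bms d (Gies.hp k L E) (Gies.hp k L G) := by
  have H := K846.Facts.hilbFacts k hL
  obtain ⟨hE1, hE2⟩ := facts_E k hL hE hp
  constructor
  · rintro h G ι hι hG ⟨hb1, hb2, hb3⟩
    exact hb3 (h G ι hι hG (alpha_pos_imp k hL hb1) _ _ (Gies.isHilbPoly_hp H hE) (Gies.isHilbPoly_hp H hG))
  · intro h G ι hι hG h0 φ ψ hφ hψ
    obtain ⟨hG1, hG2⟩ := facts_G k hL hE hp G ι hι hG h0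
    have h2 := h G ι hι hG
    rw [Gies.hp_eq hφ] at h2 hE1 hE2
    rw [Gies.hp_eq hψ] at h2 hG1 hG2
    change hatSlope d ψ ≤ hatSlope d φ
    have hc : Coh.IsCoh (cokernel ι) := K847.StabBasic.isCoh_cokernel' k ι hG hE
    have hR := Gies.isHilbPoly_hp H hc
    have hadd : φ = ψ + Gies.hp k L (cokernel ι) :=
      K847.HilbBasic.hilbPoly_add k hL.1 _ (K847.StabBasic.shortExact_cokernel ι) hG hE hc hψ hφ hR
    have hdc : topologicalKrullDim (CohB1.support (cokernel ι)) ≤ (d : WithBot ℕ∞) :=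
      (K847.StabBasic.dim_support_le_of_epi (cokernel.π ι)).trans hp.1.le
    have hc0 := K847.HilbBasic.alpha_nonneg k hL hc hdc hR
    rcases hc0.eq_or_lt with h3 | h3
    · rw [hadd]
      exact (hatSlope_le_add hG2 (K847.HilbBasic.polyLE_zero k hL hc hR) h3.symm
        (K847.HilbBasic.natDegree_le k hL.1 hc hdc hR)).2
    · by_contra h4
      refine h2 ⟨hG2, ?_, h4⟩
      rw [hadd, K847.PolyOrd.alpha_add]
      linarith

theorem mt_iff : (∀ (G : X.Modules) (ι : G ⟶ E), Mono ι → Coh.IsCoh G → ¬ IsZero G →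
      ∀ φ ψ : ℚ[X], ShStab.IsHilbPoly k X L E φ → ShStab.IsHilbPoly k X L G ψ →
        W4c2simpsonmod1.rankOf d ψ < W4c2simpsonmod1.rankOf d φ →
        W4c2simpsonmod1.slopeOf d ψ < W4c2simpsonmod1.slopeOf d φ) ↔
    ∀ (G : X.Modules) (ι : G ⟶ E), Mono ι → Coh.IsCoh G → ¬ Bmt d (Gies.hp k L E) (Gies.hp k L G) := by
  have H := K846.Facts.hilbFacts k hL
  obtain ⟨hE1, hE2⟩ := facts_E k hL hE hp
  constructor
  · rintro h G ι hι hG ⟨hb1, hb2, hb3⟩
    exact hb3 (h G ι hι hG (alpha_pos_imp k hL hb1) _ _ (Gies.isHilbPoly_hp H hE) (Gies.isHilbPoly_hp H hG) hb2)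
  · intro h G ι hι hG h0 φ ψ hφ hψ hr
    obtain ⟨hG1, hG2⟩ := facts_G k hL hE hp G ι hι hG h0
    have h2 := h G ι hι hG
    rw [Gies.hp_eq hφ] at h2 hE1 hE2
    rw [Gies.hp_eq hψ] at h2 hG1 hG2
    by_contra h4
    exact h2 ⟨hG2, hr, h4⟩

end crit

section fib

variable {S : Scheme.{u}} (n : ℕ) (X : Scheme.{u}) (i : X ⟶ CohB1.ProjSpaceOver n S) [IsClosedImmersion i]

/-- The structure morphism. -/
noncomputable abbrev ff : X ⟶ S := i ≫ (CohB1.ProjSpaceOver n S ↘ S)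

/-- The polarisation. -/
noncomputable abbrev LL : X.Modules := (Scheme.Modules.pullback i).obj (Twist.twistOver n S 1)

instance : IsProper (ff n X i) := by
  have h : IsProper (CohB1.ProjSpaceOver.toBase n S) := Ega3B.ProjProper.isProper_toBase n S
  have h2 : IsProper (CohB1.ProjSpaceOver n S ↘ S) := h
  infer_instance

theorem isRelVeryAmple : RelAmple.IsRelVeryAmplePn (ff n X i) (LL n X i) :=
  ⟨n, i, inferInstance, rfl, ⟨Iso.refl _⟩⟩

/-- The integral Hilbert polynomial on a fibre, as in the rows. -/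
def HPZ {k : Type u} [Field k] (t : Spec (CommRingCat.of k) ⟶ S) (M : (pullback (ff n X i) t).Modules)
    (φ : ℚ[X]) : Prop :=
  ∀ m : ℤ, (@Curv2.euler k _ (pullback (ff n X i) t) ⟨pullback.snd (ff n X i) t⟩
    (CohB1.tensorMod M ((Scheme.Modules.pullback (pullback.fst (ff n X i) t ≫ i)).obj (Twist.twistOver n S m))) : ℚ)
      = φ.eval (m : ℚ)

open Groth.Agent.Fga.QTDefs Groth.Agent.Fga.QT4b Groth.Agent.Fga.QT6a Groth.Agent.Fga.QT6c
  Groth.Agent.Fga.QA1 Groth.Agent.Fga.QT8 K277.ChiHilb K277.FibChi K277.GlobRep in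
theorem hpz_iff {k : Type u} [Field k] (t : Spec (CommRingCat.of k) ⟶ S) {M : (pullback (ff n X i) t).Modules}
    (hM : Coh.IsCoh M) (φ : ℚ[X]) :
    HPZ n X i t M φ ↔ @ShStab.IsHilbPoly k _ (pullback (ff n X i) t) ⟨pullback.snd (ff n X i) t⟩
      ((Scheme.Modules.pullback (pullback.fst (ff n X i) t)).obj (LL n X i)) M φ := by
  let g₀ : X ⟶ PZ n := i ≫ prZ n S
  have hcl : IsClosedImmersion (toPS g₀ (ff n X i)) := by
    have h1 := eq_toPS i
    have h2 : toPS g₀ (ff n X i) = i := h1.symm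
    rw [h2]
    infer_instance
  let e : LL n X i ≅ (Scheme.Modules.pullback g₀).obj (Twist.twistProjSpace n (ULift.{u} ℤ) 1) :=
    (Scheme.Modules.pullbackComp i (prZ n S)).app _
  rw [K846.QClosed.isHilbPoly_field_iff (f := ff n X i) (g₀ := g₀) e t hM φ]
  refine forall_congr' fun m => ?_
  let : (PicF.XT (ff n X i) (Over.mk t)).Over (Spec (CommRingCat.of k)) := ⟨pullback.snd (ff n X i) t⟩
  have hci : IsClosedImmersion (toPA (gT (ff n X i) g₀ (Over.mk t))
      ((PicF.XT (ff n X i) (Over.mk t)) ↘ Spec (CommRingCat.of k))) :=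
    isClosedImmersion_toPA (ff n X i) g₀ (B := k) t
  have h1 := K846.HilbChi.chi_eq k (gT (ff n X i) g₀ (Over.mk t)) (G := M) hM.1 m
  have e2 : (Scheme.Modules.pullback (pullback.fst (ff n X i) t ≫ i)).obj (Twist.twistOver n S m) ≅
      (Scheme.Modules.pullback (gT (ff n X i) g₀ (Over.mk t))).obj (Twist.twistProjSpace n (ULift.{u} ℤ) m) :=
    (Scheme.Modules.pullbackComp (pullback.fst (ff n X i) t ≫ i) (prZ n S)).app _ ≪≫
      (Scheme.Modules.pullbackCongr (by simp [gT, g₀])).app _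
  have h2 := @K847.HilbBasic.euler_congr k _ (pullback (ff n X i) t) ⟨pullback.snd (ff n X i) t⟩ (CohB1.tensorMod M
    ((Scheme.Modules.pullback (pullback.fst (ff n X i) t ≫ i)).obj (Twist.twistOver n S m)))
    (twg (gT (ff n X i) g₀ (Over.mk t)) M m) (Ega2.Tens.mapTIso (Iso.refl M) e2)
  have h3 : @chi n (pullback (ff n X i) t) k _ ⟨pullback.snd (ff n X i) t⟩ (gT (ff n X i) g₀ (Over.mk t)) M m =
      @Curv2.euler k _ (pullback (ff n X i) t) ⟨pullback.snd (ff n X i) t⟩ (CohB1.tensorMod M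
        ((Scheme.Modules.pullback (pullback.fst (ff n X i) t ≫ i)).obj (Twist.twistOver n S m))) :=
    h1.trans h2.symm
  rw [h3]

/-- Purity of the fibre, as in the rows. -/
def PureAt (E : X.Modules) (d : ℕ) {k : Type u} [Field k] (t : Spec (CommRingCat.of k) ⟶ S) : Prop :=
  topologicalKrullDim ↥(CohB1.support ((Scheme.Modules.pullback (pullback.fst (ff n X i) t)).obj E)) =
      (d : WithBot ℕ∞) ∧
    ∀ (G : (pullback (ff n X i) t).Modules) (ι : G ⟶ ((Scheme.Modules.pullback (pullback.fst (ff n X i) t)).obj E)),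
      Mono ι → Coh.IsCoh G → ¬ IsZero G → topologicalKrullDim ↥(CohB1.support G) = (d : WithBot ℕ∞)

theorem range_subset_iff {k : Type u} [Field k] (t : Spec (CommRingCat.of k) ⟶ S) (U : S.Opens) :
    Set.range t.base ⊆ (U : Set S) ↔ t (IsLocalRing.closedPoint k) ∈ (U : Set S) := by
  constructor
  · intro h
    exact h ⟨_, rfl⟩
  · rintro h _ ⟨y, rfl⟩
    obtain rfl : y = IsLocalRing.closedPoint k := eq_closedPoint _ _
    exact h

theorem point_facts [IsLocallyNoetherian S] {E : X.Modules} (hE : Coh.IsCoh E) (k : Type u) [Field k]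
    (t : Spec (CommRingCat.of k) ⟶ S) :
    IsProper (pullback.snd (ff n X i) t) ∧
      Coh.IsCoh ((Scheme.Modules.pullback (pullback.fst (ff n X i) t)).obj E) ∧
      CohB1.IsAmple ((Scheme.Modules.pullback (pullback.fst (ff n X i) t)).obj (LL n X i)) ∧
      IsLocallyNoetherian (pullback (ff n X i) t) := by
  have H : IsPullback (pullback.fst (ff n X i) t) (pullback.snd (ff n X i) t) (ff n X i) t :=
    IsPullback.of_hasPullback _ _
  have h1 : IsProper (pullback.snd (ff n X i) t) := MorphismProperty.of_isPullback H inferInstance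
  have h2 : IsLocallyNoetherian (pullback (ff n X i) t) :=
    LocallyOfFiniteType.isLocallyNoetherian (pullback.snd (ff n X i) t)
  have h3 : IsLocallyNoetherian X := LocallyOfFiniteType.isLocallyNoetherian (ff n X i)
  exact ⟨h1, FormalA.PullbackQC.isCoh_pullback _ _ hE,
    fAmple_of_veryAmple (isRelVeryAmple n X i) k t _ _ _ H, h2⟩

variable [IsNoetherian S] {E : X.Modules} (hE : Coh.IsCoh E) (hflat : FlatMod.IsFlatOver (ff n X i) E) (d : ℕ)

include hE hflat

/-- **Openness**: `ss`. -/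
theorem open_ss : ∃ U : S.Opens, ∀ (k : Type u) [Field k] [IsAlgClosed k] (t : Spec (CommRingCat.of k) ⟶ S),
    PureAt n X i E d t →
    ((∀ (G : (pullback (ff n X i) t).Modules) (ι : G ⟶ (Scheme.Modules.pullback (pullback.fst (ff n X i) t)).obj E),
        Mono ι → Coh.IsCoh G → ¬ IsZero G → 
          ∀ φ ψ : ℚ[X], HPZ n X i t ((Scheme.Modules.pullback (pullback.fst (ff n X i) t)).obj E) φ →
            HPZ n X i t G ψ → W4c2simpsonmod1.RedLE d ψ φ) ↔ Set.range t.base ⊆ (U : Set S)) := by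
  obtain ⟨U, hU⟩ := K437.OpenFam.exists_open (ff n X i) (isRelVeryAmple n X i) hE hflat (d := d) (Bss d)
    (fun P h1 h2 => badSet_ss h1 h2)
  refine ⟨U, fun k _ _ t hp => ?_⟩
  let : (pullback (ff n X i) t).Over (Spec (CommRingCat.of k)) := ⟨pullback.snd (ff n X i) t⟩
  obtain ⟨h1, h2, h3, h4⟩ := point_facts n X i hE k t
  have h1' : IsProper (pullback (ff n X i) t ↘ Spec (CommRingCat.of k)) := h1
  obtain ⟨hE1, hE2⟩ := facts_E k h3 h2 hp
  have H := K846.Facts.hilbFacts k h3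
  have h5 := hU k t (IsLocalRing.closedPoint k) _ (Gies.isHilbPoly_hp H h2) hE1 hE2
  refine Iff.trans (Iff.trans ?_ (ss_iff k h3 h2 hp)) (h5.symm.trans (range_subset_iff t U).symm)
  refine forall_congr' fun G => forall_congr' fun ι => forall_congr' fun hι => forall_congr' fun hG =>
    forall_congr' fun h0 => forall_congr' fun φ => forall_congr' fun ψ => ?_
  rw [hpz_iff n X i t h2 φ, hpz_iff n X i t hG ψ]

/-- **Openness**: `st`. -/
theorem open_st : ∃ U : S.Opens, ∀ (k : Type u) [Field k] [IsAlgClosed k] (t : Spec (CommRingCat.of k) ⟶ S),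
    PureAt n X i E d t →
    ((∀ (G : (pullback (ff n X i) t).Modules) (ι : G ⟶ (Scheme.Modules.pullback (pullback.fst (ff n X i) t)).obj E),
        Mono ι → Coh.IsCoh G → ¬ IsZero G → ¬ IsIso ι →
          ∀ φ ψ : ℚ[X], HPZ n X i t ((Scheme.Modules.pullback (pullback.fst (ff n X i) t)).obj E) φ →
            HPZ n X i t G ψ → W4c2simpsonmod1.RedLT d ψ φ) ↔ Set.range t.base ⊆ (U : Set S)) := by
  obtain ⟨U, hU⟩ := K437.OpenFam.exists_open (ff n X i) (isRelVeryAmple n X i) hE hflat (d := d) (Bst d)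
    (fun P h1 h2 => badSet_st h1 h2)
  refine ⟨U, fun k _ _ t hp => ?_⟩
  let : (pullback (ff n X i) t).Over (Spec (CommRingCat.of k)) := ⟨pullback.snd (ff n X i) t⟩
  obtain ⟨h1, h2, h3, h4⟩ := point_facts n X i hE k t
  have h1' : IsProper (pullback (ff n X i) t ↘ Spec (CommRingCat.of k)) := h1
  obtain ⟨hE1, hE2⟩ := facts_E k h3 h2 hp
  have H := K846.Facts.hilbFacts k h3
  have h5 := hU k t (IsLocalRing.closedPoint k) _ (Gies.isHilbPoly_hp H h2) hE1 hE2
  refine Iff.trans (Iff.trans ?_ (st_iff k h3 h2 hp)) (h5.symm.trans (range_subset_iff t U).symm)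
  refine forall_congr' fun G => forall_congr' fun ι => forall_congr' fun hι => forall_congr' fun hG =>
    forall_congr' fun h0 => forall_congr' fun h00 => forall_congr' fun φ => forall_congr' fun ψ => ?_
  rw [hpz_iff n X i t h2 φ, hpz_iff n X i t hG ψ]

/-- **Openness**: `ms`. -/
theorem open_ms : ∃ U : S.Opens, ∀ (k : Type u) [Field k] [IsAlgClosed k] (t : Spec (CommRingCat.of k) ⟶ S),
    PureAt n X i E d t →
    ((∀ (G : (pullback (ff n X i) t).Modules) (ι : G ⟶ (Scheme.Modules.pullback (pullback.fst (ff n X i) t)).obj E),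
        Mono ι → Coh.IsCoh G → ¬ IsZero G → 
          ∀ φ ψ : ℚ[X], HPZ n X i t ((Scheme.Modules.pullback (pullback.fst (ff n X i) t)).obj E) φ →
            HPZ n X i t G ψ → W4c2simpsonmod1.slopeOf d ψ ≤ W4c2simpsonmod1.slopeOf d φ) ↔ Set.range t.base ⊆ (U : Set S)) := by
  obtain ⟨U, hU⟩ := K437.OpenFam.exists_open (ff n X i) (isRelVeryAmple n X i) hE hflat (d := d) (Bms d)
    (fun P h1 h2 => badSet_ms h2)
  refine ⟨U, fun k _ _ t hp => ?_⟩
  let : (pullback (ff n X i) t).Over (Spec (CommRingCat.of k)) := ⟨pullback.snd (ff n X i) t⟩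
  obtain ⟨h1, h2, h3, h4⟩ := point_facts n X i hE k t
  have h1' : IsProper (pullback (ff n X i) t ↘ Spec (CommRingCat.of k)) := h1
  obtain ⟨hE1, hE2⟩ := facts_E k h3 h2 hp
  have H := K846.Facts.hilbFacts k h3
  have h5 := hU k t (IsLocalRing.closedPoint k) _ (Gies.isHilbPoly_hp H h2) hE1 hE2
  refine Iff.trans (Iff.trans ?_ (ms_iff k h3 h2 hp)) (h5.symm.trans (range_subset_iff t U).symm)
  refine forall_congr' fun G => forall_congr' fun ι => forall_congr' fun hι => forall_congr' fun hG =>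
    forall_congr' fun h0 => forall_congr' fun φ => forall_congr' fun ψ => ?_
  rw [hpz_iff n X i t h2 φ, hpz_iff n X i t hG ψ]

/-- **Openness**: `mt`. -/
theorem open_mt : ∃ U : S.Opens, ∀ (k : Type u) [Field k] [IsAlgClosed k] (t : Spec (CommRingCat.of k) ⟶ S),
    PureAt n X i E d t →
    ((∀ (G : (pullback (ff n X i) t).Modules) (ι : G ⟶ (Scheme.Modules.pullback (pullback.fst (ff n X i) t)).obj E),
        Mono ι → Coh.IsCoh G → ¬ IsZero G → 
          ∀ φ ψ : ℚ[X], HPZ n X i t ((Scheme.Modules.pullback (pullback.fst (ff n X i) t)).obj E) φ →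
            HPZ n X i t G ψ → W4c2simpsonmod1.rankOf d ψ < W4c2simpsonmod1.rankOf d φ →
            W4c2simpsonmod1.slopeOf d ψ < W4c2simpsonmod1.slopeOf d φ) ↔ Set.range t.base ⊆ (U : Set S)) := by
  obtain ⟨U, hU⟩ := K437.OpenFam.exists_open (ff n X i) (isRelVeryAmple n X i) hE hflat (d := d) (Bmt d)
    (fun P h1 h2 => badSet_mt h2)
  refine ⟨U, fun k _ _ t hp => ?_⟩
  let : (pullback (ff n X i) t).Over (Spec (CommRingCat.of k)) := ⟨pullback.snd (ff n X i) t⟩
  obtain ⟨h1, h2, h3, h4⟩ := point_facts n X i hE k t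
  have h1' : IsProper (pullback (ff n X i) t ↘ Spec (CommRingCat.of k)) := h1
  obtain ⟨hE1, hE2⟩ := facts_E k h3 h2 hp
  have H := K846.Facts.hilbFacts k h3
  have h5 := hU k t (IsLocalRing.closedPoint k) _ (Gies.isHilbPoly_hp H h2) hE1 hE2
  refine Iff.trans (Iff.trans ?_ (mt_iff k h3 h2 hp)) (h5.symm.trans (range_subset_iff t U).symm)
  refine forall_congr' fun G => forall_congr' fun ι => forall_congr' fun hι => forall_congr' fun hG =>
    forall_congr' fun h0 => forall_congr' fun φ => forall_congr' fun ψ => ?_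
  rw [hpz_iff n X i t h2 φ, hpz_iff n X i t hG ψ]

end fib

end K437.OpenRows
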